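import Cfsg.Agent.MinIndex50.Perm

/-!
The small exceptions: a transitive action of `SL_3(4)` on 16 points and of `SL_4(3)` on 27 points.
-/

set_option autoImplicit false

namespace Cfsg.Agent.MinIndex50

open Matrix Cfsg.Agent.MinDeg.SLMin

variable {F : Type*} [Field F] [Fintype F]

omit [Fintype F] in
/-- an involution of `SL_3` in characteristic two is a transvection -/
theorem involution_tv (h2 : (2 : F) = 0) {t : SpecialLinearGroup (Fin 3) F} (ht : t * t = 1)
    (ht1 : t ≠ 1) : ∃ u φ, φ ⬝ᵥ u = 0 ∧ u ≠ 0 ∧ φ ≠ 0 ∧ t = tv u φ := by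
  let N : (Fin 3 → F) →ₗ[F] (Fin 3 → F) := (t.1 - 1).mulVecLin
  have hN : ∀ x, N x = t.1 *ᵥ x - x := fun x => by
    simp [N, Matrix.sub_mulVec]
  have hNN : ∀ x, N (N x) = 0 := fun x => by
    rw [hN, hN, Matrix.mulVec_sub, ← sl_mul_mulVec, ht, sl_one_mulVec]
    have e : x - t.1 *ᵥ x - (t.1 *ᵥ x - x) = (2 : F) • (x - t.1 *ᵥ x) := by
      rw [two_smul]; abel
    rw [e, h2, zero_smul]
  have hle : LinearMap.range N ≤ LinearMap.ker N := by
    rintro _ ⟨x, rfl⟩
    exact LinearMap.mem_ker.2 (hNN x)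
  have h3 := LinearMap.finrank_range_add_finrank_ker N
  rw [Module.finrank_fin_fun] at h3
  have hle' := Submodule.finrank_mono hle
  have hne : LinearMap.range N ≠ ⊥ := fun hb => ht1 (sl_ext fun x => by
    have : N x ∈ LinearMap.range N := ⟨x, rfl⟩
    rw [hb, Submodule.mem_bot, hN, sub_eq_zero] at this
    rw [this, sl_one_mulVec])
  have hpos : Module.finrank F (LinearMap.range N) ≠ 0 := fun h0 =>
    hne (Submodule.finrank_eq_zero.1 h0)
  have h1 : Module.finrank F (LinearMap.range N) = 1 := by omega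
  obtain ⟨⟨u, hu⟩, hu0, hspan⟩ := finrank_eq_one_iff'.1 h1
  choose c hc using fun x => hspan ⟨N x, LinearMap.mem_range_self N x⟩
  have hc' : ∀ x, N x = c x • u := fun x => (congrArg Subtype.val (hc x)).symm
  have hu' : u ≠ 0 := fun h0 => hu0 (Subtype.ext h0)
  let φ : Fin 3 → F := fun j => c (Pi.single j 1)
  have hφ : ∀ x, N x = (φ ⬝ᵥ x) • u := by
    intro x
    conv_lhs => rw [pi_eq_sum_univ' x, map_sum]
    rw [dotProduct, Finset.sum_smul]
    refine Finset.sum_congr rfl fun j _ => ?_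
    rw [map_smul, hc', smul_smul, mul_comm]
  have hφu : φ ⬝ᵥ u = 0 := by
    have h := hle hu
    rw [LinearMap.mem_ker, hφ, smul_eq_zero] at h
    exact h.resolve_right hu'
  refine ⟨u, φ, hφu, hu', fun h0 => hne ?_, sl_ext fun x => ?_⟩
  · rw [LinearMap.range_eq_bot]
    exact LinearMap.ext fun x => by rw [hφ, h0, zero_dotProduct, zero_smul, LinearMap.zero_apply]
  · rw [tv_mulVec hφu, ← hφ, hN, add_sub_cancel]

/-- `SL_3(4)` has no transitive action on 16 points -/
theorem not_sixteen (hq : Fintype.card F = 4) (H : Subgroup (SpecialLinearGroup (Fin 3) F))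
    (hG : 2 ∣ Nat.card H) : H.index ≠ 16 := by
  intro hi
  classical
  haveI : Fact (Nat.Prime 2) := ⟨Nat.prime_two⟩
  obtain ⟨⟨t, htH⟩, ht⟩ := exists_prime_orderOf_dvd_card' 2 hG
  rw [Subgroup.orderOf_mk] at ht
  have htt : t * t = 1 := by rw [← pow_two, ← ht, pow_orderOf_eq_one]
  have ht1 : t ≠ 1 := fun h => by simp [h] at ht
  have h2 : (2 : F) = 0 := by
    have h := Nat.cast_card_eq_zero F
    rw [hq] at h
    have : (2 : F) * 2 = 0 := by norm_num; exact_mod_cast h
    exact mul_self_eq_zero.1 this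
  obtain ⟨u, φ, hφu, hu, hφ, rfl⟩ := involution_tv h2 htt ht1
  obtain ⟨hle, hfix⟩ := fixed_qEl (m := 0) (k := 16) (F := F)
    (X := SpecialLinearGroup (Fin 3) F ⧸ H) hi (by omega) (by rw [hq]; norm_num)
  have h0 := hfix (Pi.single 0 1) (by simp)
  rw [hq] at h0
  have hconj := trace_tv_const (R := pmat (SpecialLinearGroup (Fin 3) F ⧸ H)
    ((Finite.equivFin _).trans (finCongr hi))) (m := 0) hφu hu hφ
  rw [pmat_trace, pmat_trace, h0] at hconj
  have h1 : (QuotientGroup.mk 1 : SpecialLinearGroup (Fin 3) F ⧸ H) ∈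
      MulAction.fixedBy (SpecialLinearGroup (Fin 3) F ⧸ H) (tv u φ) := by
    rw [MulAction.mem_fixedBy]
    exact QuotientGroup.eq.2 (by simpa using htH)
  have hpos : 0 < Nat.card (MulAction.fixedBy (SpecialLinearGroup (Fin 3) F ⧸ H) (tv u φ)) := by
    haveI : Nonempty (MulAction.fixedBy (SpecialLinearGroup (Fin 3) F ⧸ H) (tv u φ)) := ⟨⟨_, h1⟩⟩
    exact Nat.card_pos
  have := Nat.cast_injective hconj
  omega

omit [Fintype F] in
theorem vecMul_coord {n : ℕ} (c : Fin n → F) (A : SpecialLinearGroup (Fin n) F) (j : Fin n) :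
    (c ᵥ* A.1) j = c ⬝ᵥ (A.1 *ᵥ Pi.single j 1) := by
  rw [Matrix.dotProduct_mulVec, dotProduct_single, mul_one]

/-- `SL_4(3)` has no transitive action on 27 points -/
theorem not_twentySeven (hq : Fintype.card F = 3) (X : Type*) [Finite X]
    [MulAction (SpecialLinearGroup (Fin 4) F) X]
    [MulAction.IsPretransitive (SpecialLinearGroup (Fin 4) F) X] : Nat.card X ≠ 27 := by
  intro hX
  classical
  obtain ⟨-, hfix⟩ := fixed_qEl (m := 1) (k := 27) (F := F) (X := X) hX (by omega)
    (by rw [hq]; norm_num)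
  have h3 : (3 : F) = 0 := by
    have h := Nat.cast_card_eq_zero F
    rw [hq] at h
    exact_mod_cast h
  have h20 : (2 : F) ≠ 0 := fun h => one_ne_zero (α := F) (by linear_combination h3 - h)
  have hfree : ∀ (r : Fin 3 → F) (x : X), r ≠ 0 →
      (qEl r : SpecialLinearGroup (Fin 4) F) • x ≠ x := by
    intro r x hr hx
    have h := hfix r hr
    rw [hq] at h
    haveI : Nonempty (MulAction.fixedBy X (qEl r : SpecialLinearGroup (Fin 4) F)) := ⟨⟨x, hx⟩⟩
    have hp := Nat.card_pos (α := MulAction.fixedBy X (qEl r : SpecialLinearGroup (Fin 4) F))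
    rw [h] at hp
    norm_num at hp
  haveI : Nonempty X := (Nat.card_pos_iff.mp (by omega)).1
  letI := Fintype.ofFinite X
  have hinj : ∀ x : X, Function.Injective fun r : Fin 3 → F =>
      (qEl r : SpecialLinearGroup (Fin 4) F) • x := by
    intro x r r' h
    by_contra hne
    refine hfree (r - r') ((qEl r' : SpecialLinearGroup (Fin 4) F) • x) (sub_ne_zero.2 hne) ?_
    rw [← mul_smul, ← qEl_add, sub_add_cancel]
    exact h
  have hsurj : ∀ x y : X, ∃ r : Fin 3 → F, (qEl r : SpecialLinearGroup (Fin 4) F) • x = y := by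
    intro x
    exact ((Fintype.bijective_iff_injective_and_card _).2 ⟨hinj x, by
      rw [Fintype.card_fun, Fintype.card_fin, hq, ← Nat.card_eq_fintype_card, hX]; norm_num⟩).2
  have hsm : ∀ (A : SpecialLinearGroup (Fin 3) F) (r : Fin 3 → F) (x : X),
      emb A • (qEl r : SpecialLinearGroup (Fin 4) F) • x =
        (qEl (r ᵥ* (A⁻¹).1) : SpecialLinearGroup (Fin 4) F) • emb A • x := fun A r x => by
    rw [← mul_smul, emb_mul_qEl, mul_smul]
  set d := hE (F := F) (m := 3) 0 1 (-1) with hd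
  set d' := hE (F := F) (m := 3) 1 2 (-1) with hd'
  have hn : (-1 : F) ≠ 0 := neg_ne_zero.2 one_ne_zero
  have h01 : (0 : Fin 3) ≠ 1 := by decide
  have h12 : (1 : Fin 3) ≠ 2 := by decide
  have h02 : (0 : Fin 3) ≠ 2 := by decide
  have hdd : d⁻¹ = d := inv_eq_of_mul_eq_one_right <| by
    apply sl_ext; intro x; funext l
    rw [sl_mul_mulVec, sl_one_mulVec]
    fin_cases l <;> simp [hd, hE_mulVec h01 hn]
  have hdd' : d'⁻¹ = d' := inv_eq_of_mul_eq_one_right <| by
    apply sl_ext; intro x; funext l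
    rw [sl_mul_mulVec, sl_one_mulVec]
    fin_cases l <;> simp [hd', hE_mulVec h12 hn]
  have hdv : ∀ (c : Fin 3 → F), c ᵥ* d.1 = ![-(c 0), -(c 1), c 2] := fun c => by
    funext l
    rw [vecMul_coord, dotProduct, Fin.sum_univ_three]
    simp only [hd, hE_mulVec h01 hn]
    fin_cases l <;> simp
  have hdv' : ∀ (c : Fin 3 → F), c ᵥ* d'.1 = ![c 0, -(c 1), -(c 2)] := fun c => by
    funext l
    rw [vecMul_coord, dotProduct, Fin.sum_univ_three]
    simp only [hd', hE_mulVec h12 hn]
    fin_cases l <;> simp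
  have hcomm : d * d' = d' * d := by
    apply sl_ext; intro x; funext l
    rw [sl_mul_mulVec, sl_mul_mulVec]
    fin_cases l <;> simp [hd, hd', hE_mulVec h01 hn, hE_mulVec h12 hn]
  have hsd : ∀ (r : Fin 3 → F) (y : X), emb d • (qEl r : SpecialLinearGroup (Fin 4) F) • y =
      (qEl (r ᵥ* d.1) : SpecialLinearGroup (Fin 4) F) • emb d • y := fun r y => by
    rw [hsm, hdd]
  have hsd' : ∀ (r : Fin 3 → F) (y : X), emb d' • (qEl r : SpecialLinearGroup (Fin 4) F) • y =
      (qEl (r ᵥ* d'.1) : SpecialLinearGroup (Fin 4) F) • emb d' • y := fun r y => by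
    rw [hsm, hdd']
  have hmul : ∀ (A B : SpecialLinearGroup (Fin 3) F) (y : X),
      emb A • emb B • y = emb (A * B) • y := fun A B y => by rw [map_mul, mul_smul]
  have hd2 : d * d = 1 := by nth_rewrite 1 [← hdd]; exact inv_mul_cancel d
  have hd2' : d' * d' = 1 := by nth_rewrite 1 [← hdd']; exact inv_mul_cancel d'
  -- a point fixed by the two diagonal involutions
  obtain ⟨x, hx, hx'⟩ : ∃ x : X, emb d • x = x ∧ emb d' • x = x := by
    obtain ⟨z⟩ := ‹Nonempty X›
    obtain ⟨c, hc⟩ := hsurj z (emb d • z)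
    set h := (2 : F)⁻¹ with hh
    have hhalf : ∀ a : F, a = h * a + h * a := fun a => by
      rw [hh]; field_simp; ring
    have hcd : c ᵥ* d.1 + c = 0 := by
      apply hinj z
      show (qEl (c ᵥ* d.1 + c) : SpecialLinearGroup (Fin 4) F) • z = (qEl 0 : _) • z
      rw [qEl_add, mul_smul, hc, qEl_zero, one_smul, ← hsd, hc, hmul, hd2, map_one, one_smul]
    obtain ⟨y, hy⟩ : ∃ y : X, emb d • y = y := by
      refine ⟨(qEl (fun i => h * c i) : SpecialLinearGroup (Fin 4) F) • z, ?_⟩
      rw [hsd, ← hc, ← mul_smul, ← qEl_add]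
      congr 2
      funext i
      have hi := congrFun hcd i
      rw [hdv] at hi
      rw [hdv]
      have e := hhalf (c i)
      fin_cases i <;> simp at hi e ⊢ <;> linear_combination (exp := 1) e + h * hi
    obtain ⟨e, he⟩ := hsurj y (emb d' • y)
    have hed : e ᵥ* d.1 = e := by
      apply hinj y
      show (qEl (e ᵥ* d.1) : SpecialLinearGroup (Fin 4) F) • y = (qEl e : _) • y
      nth_rewrite 1 [← hy]
      rw [← hsd, he, hmul, hcomm, ← hmul, hy]
    have hed' : e ᵥ* d'.1 + e = 0 := by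
      apply hinj y
      show (qEl (e ᵥ* d'.1 + e) : SpecialLinearGroup (Fin 4) F) • y = (qEl 0 : _) • y
      rw [qEl_add, mul_smul, he, qEl_zero, one_smul, ← hsd', he, hmul, hd2', map_one, one_smul]
    refine ⟨(qEl (fun i => h * e i) : SpecialLinearGroup (Fin 4) F) • y, ?_, ?_⟩
    · rw [hsd, hy]
      congr 2
      funext i
      have hi := congrFun hed i
      rw [hdv] at hi
      rw [hdv]
      fin_cases i <;> simp at hi ⊢ <;> linear_combination h * hi
    · rw [hsd', ← he, ← mul_smul, ← qEl_add]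
      congr 2
      funext i
      have hi := congrFun hed' i
      rw [hdv'] at hi
      rw [hdv']
      have e' := hhalf (e i)
      fin_cases i <;> simp at hi e' ⊢ <;> linear_combination (exp := 1) e' + h * hi
  have huniq : ∀ r : Fin 3 → F, r ᵥ* d.1 = r → r ᵥ* d'.1 = r → r = 0 := by
    intro r hr hr'
    rw [hdv] at hr; rw [hdv'] at hr'
    have e0 := congrFun hr 0
    have e1 := congrFun hr 1
    have e2 := congrFun hr' 2
    simp at e0 e1 e2
    have hz : ∀ a : F, -a = a → a = 0 := fun a ha =>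
      (mul_eq_zero.1 (show (2 : F) * a = 0 by linear_combination -ha)).resolve_left h20
    funext i
    fin_cases i
    · exact hz _ e0
    · exact hz _ e1
    · exact hz _ e2
  -- the element swapping the first and the last coordinate fixes `x`
  set p := sE (F := F) (m := 3) 0 2 with hp
  set p' := sE (F := F) (m := 3) 2 0 with hp'
  have hpinv : p⁻¹ = p' := inv_eq_of_mul_eq_one_left <| by
    apply sl_ext; intro z; funext l
    rw [sl_mul_mulVec, sl_one_mulVec]
    fin_cases l <;> simp [hp, hp', sE_mulVec h02, sE_mulVec h02.symm]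
  have hpd : p * d = d' * p := by
    apply sl_ext; intro z; funext l
    rw [sl_mul_mulVec, sl_mul_mulVec]
    fin_cases l <;> simp [hp, hd, hd', sE_mulVec h02, hE_mulVec h01 hn, hE_mulVec h12 hn]
  have hpd' : p * d' = d * p := by
    apply sl_ext; intro z; funext l
    rw [sl_mul_mulVec, sl_mul_mulVec]
    fin_cases l <;> simp [hp, hd, hd', sE_mulVec h02, hE_mulVec h01 hn, hE_mulVec h12 hn]
  have hpx : emb p • x = x := by
    obtain ⟨r, hr⟩ := hsurj x (emb p • x)
    have e1 : r ᵥ* d.1 = r := by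
      apply hinj x
      show (qEl (r ᵥ* d.1) : SpecialLinearGroup (Fin 4) F) • x = (qEl r : _) • x
      nth_rewrite 1 [← hx]
      rw [← hsd, hr, hmul, ← hpd', ← hmul, hx']
    have e2 : r ᵥ* d'.1 = r := by
      apply hinj x
      show (qEl (r ᵥ* d'.1) : SpecialLinearGroup (Fin 4) F) • x = (qEl r : _) • x
      nth_rewrite 1 [← hx']
      rw [← hsd', hr, hmul, ← hpd, ← hmul, hx]
    rw [← hr, huniq r e1 e2, qEl_zero, one_smul]
  set t := root (F := F) (m := 3) 0 1 1 with ht
  set s := root (F := F) (m := 3) 2 1 (-1) with hs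
  have hti : t⁻¹ = root 0 1 (-1) := inv_eq_of_mul_eq_one_right <| by
    rw [ht, ← root_add h01, add_neg_cancel, root_zero h01]
  have hsi : s⁻¹ = root 2 1 1 := inv_eq_of_mul_eq_one_right <| by
    rw [hs, ← root_add h12.symm, neg_add_cancel, root_zero h12.symm]
  have htd : t * d = d * t := by
    apply sl_ext; intro z; funext l
    rw [sl_mul_mulVec, sl_mul_mulVec]
    fin_cases l <;> simp [ht, hd, root_mulVec h01, hE_mulVec h01 hn] <;> ring
  have hts : t * s = s * t := by
    apply sl_ext; intro z; funext l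
    rw [sl_mul_mulVec, sl_mul_mulVec]
    fin_cases l <;> simp [ht, hs, root_mulVec h01, root_mulVec h12.symm]
  have hpt : p * t = s * p := by
    apply sl_ext; intro z; funext l
    rw [sl_mul_mulVec, sl_mul_mulVec]
    fin_cases l <;> simp [hp, ht, hs, sE_mulVec h02, root_mulVec h01, root_mulVec h12.symm] <;> ring
  obtain ⟨c, hc⟩ := hsurj x (emb t • x)
  have hcd : c ᵥ* d.1 = c := by
    apply hinj x
    show (qEl (c ᵥ* d.1) : SpecialLinearGroup (Fin 4) F) • x = (qEl c : _) • x
    nth_rewrite 1 [← hx]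
    rw [← hsd, hc, hmul, ← htd, ← hmul, hx]
  have hc' : emb s • x = (qEl (c ᵥ* (p⁻¹).1) : SpecialLinearGroup (Fin 4) F) • x := by
    nth_rewrite 1 [← hpx]
    rw [hmul, ← hpt, ← hmul, ← hc, hsm, hpx]
  have key : (c ᵥ* (p⁻¹).1) ᵥ* (t⁻¹).1 + c = c ᵥ* (s⁻¹).1 + c ᵥ* (p⁻¹).1 := by
    apply hinj x
    show (qEl _ : SpecialLinearGroup (Fin 4) F) • x = (qEl _ : _) • x
    rw [qEl_add, qEl_add, mul_smul, mul_smul, hc, ← hc', ← hsm, ← hsm, ← hc', hc, hmul, hmul, hts]
  rw [hdv] at hcd
  have hz : ∀ a : F, -a = a → a = 0 := fun a ha =>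
    (mul_eq_zero.1 (show (2 : F) * a = 0 by linear_combination -ha)).resolve_left h20
  have c0 : c 0 = 0 := hz _ (by simpa using congrFun hcd 0)
  have c1 : c 1 = 0 := hz _ (by simpa using congrFun hcd 1)
  have key1 := congrFun key 1
  rw [hpinv, hti, hsi] at key1
  simp only [Pi.add_apply, vecMul_coord, dotProduct, Fin.sum_univ_three, hp',
    sE_mulVec h02.symm, root_mulVec h01, root_mulVec h12.symm] at key1
  simp [c0, c1] at key1
  have c2 : c 2 = 0 := hz _ (by linear_combination key1)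
  have hc0 : c = 0 := by funext i; fin_cases i <;> assumption
  have hfixed : emb t • x = x := by rw [← hc, hc0, qEl_zero, one_smul]
  have hcard := hfix (Pi.single 0 1) (by simp)
  rw [hq] at hcard
  have hconj := trace_tv_const (R := pmat (G := SpecialLinearGroup (Fin 4) F) X
    ((Finite.equivFin X).trans (finCongr hX))) (m := 1)
    (u := Fin.cons 0 (Pi.single 0 1)) (φ := Fin.cons 0 (Pi.single 1 1))
    (by rw [MinDeg.SLMin.cons_dotProduct_cons, root_ok h01, mul_zero, add_zero])
    (cons_ne_zero (by simp)) (cons_ne_zero (by simp))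
  rw [← emb_tv _ _ (root_ok h01 1), show tv (Pi.single 0 1) (Pi.single 1 1) = t from rfl,
    pmat_trace, pmat_trace, hcard] at hconj
  haveI : Nonempty (MulAction.fixedBy X (emb t)) := ⟨⟨x, hfixed⟩⟩
  have := Nat.card_pos (α := MulAction.fixedBy X (emb t))
  have := Nat.cast_injective hconj
  omega

end Cfsg.Agent.MinIndex50
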