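import Cfsg.Agent.MinDeg.SLResult
import Cfsg.Agent.Char.PermChar
import Cfsg.Agent.Char.Integrality

/-!
Bounds on the degrees of the irreducible characters of `SL_n` and on the number of points of a
transitive action.
-/

set_option autoImplicit false

namespace Cfsg.Agent.MinIndex50

open Matrix Cfsg Cfsg.Agent.Char Cfsg.Agent.MinDeg.SLMin

variable {F : Type*} [Field F] [Fintype F] {m k : ℕ}

section Trace

variable {R : SpecialLinearGroup (Fin (m + 3)) F →* Matrix (Fin k) (Fin k) ℂ}

/-- the trace of a transvection in a non-trivial unitary representation -/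
theorem trace_facts (hR : IsU R) (hnt : ∃ g, R g ≠ 1) :
    ∃ a d : ℕ, 1 ≤ a ∧ (R (qEl (Pi.single 0 1))).trace = (k : ℂ) - (Fintype.card F : ℂ) ^ (m + 2) * a ∧
      k + a = d + Fintype.card F ^ (m + 2) * a := by
  classical
  obtain ⟨ψ, hψ⟩ := exists_primitive F
  set τ := (R (qEl (Pi.single 0 1))).trace with hτ
  set q := (Fintype.card F : ℂ) with hq
  have hq0 : q ≠ 0 := Nat.cast_ne_zero.2 Fintype.card_ne_zero
  have htr : ∀ r : Fin (m + 2) → F, r ≠ 0 → (R (qEl r)).trace = τ := fun r hr =>
    trace_tv_const (qEl_ok r) single0_ne (cons_ne_zero hr)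
  have hW : ∀ w : Fin (m + 2) → F, q ^ (m + 2) * (wproj ψ R w).trace =
      (k : ℂ) - τ + if w = 0 then q ^ (m + 2) * τ else 0 := by
    intro w
    have hterm : ∀ r : Fin (m + 2) → F, wchar ψ w (-r) * (R (qEl r)).trace =
        wchar ψ w (-r) * τ + if r = 0 then (k : ℂ) - τ else 0 := by
      intro r
      rcases eq_or_ne r 0 with rfl | hr
      · rw [qEl_zero, map_one, Matrix.trace_one, Fintype.card_fin, neg_zero,
          AddChar.map_zero_eq_one, if_pos rfl]
        ring
      · rw [htr r hr, if_neg hr, add_zero]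
    have hs : ∑ r : Fin (m + 2) → F, wchar ψ w (-r) = if w = 0 then q ^ (m + 2) else 0 := by
      rw [hq, ← sum_psi hψ w]
      exact Fintype.sum_equiv (Equiv.neg _) _ _ fun r => rfl
    rw [wproj, avgC, Matrix.trace_smul, Matrix.trace_sum, smul_eq_mul, ← mul_assoc,
      Fintype.card_pi_const, Nat.cast_pow, mul_inv_cancel₀ (pow_ne_zero _ hq0), one_mul]
    simp only [Matrix.trace_smul, smul_eq_mul, hterm, Finset.sum_add_distrib, Finset.sum_ite_eq',
      Finset.mem_univ, if_true, ← Finset.sum_mul, hs]
    split_ifs <;> ring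
  have hPr : ∀ w, IsPr (wproj ψ R w) := fun w => avgC_isPr qEl_add hR _
  obtain ⟨a, ha, -⟩ := (hPr (Pi.single 0 1)).trace_nat
  have hτa : τ = (k : ℂ) - q ^ (m + 2) * a := by
    have := hW (Pi.single 0 1)
    rw [ha, if_neg (by simp), add_zero] at this
    rw [this]; ring
  have ha1 : 1 ≤ a := by
    by_contra! h0
    obtain rfl : a = 0 := by omega
    obtain ⟨g, hg⟩ := hnt
    refine hg (sl_induction (by omega) (fun g => R g = 1) (fun i j hij c => ?_)
      (fun x y hx hy => by rw [map_mul, hx, hy, Matrix.one_mul]) g)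
    rcases eq_or_ne c 0 with rfl | hc
    · rw [root_zero hij, map_one]
    have h := eq_of_trace_eq IsPr.one (hR.star_mul_self (root i j c)) (by
      rw [Matrix.mul_one, root, trace_tv_const (root_ok hij c) (by simp) (by simpa using hc), ← hτ,
        hτa, Matrix.trace_one, Fintype.card_fin]
      simp)
    rwa [Matrix.mul_one] at h
  obtain ⟨d, hd, -⟩ := (hPr 0).trace_nat
  refine ⟨a, d, ha1, hτa, ?_⟩
  have h := hW 0
  rw [hd, if_pos rfl, hτa] at h
  apply Nat.cast_injective (R := ℂ)
  apply mul_left_cancel₀ (pow_ne_zero (m + 2) hq0)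
  push_cast
  rw [← hq]
  linear_combination -h

end Trace

section Action

variable {G : Type*} [Group G]

open Classical in
/-- the permutation matrices of an action -/
noncomputable def pmat (X : Type*) [MulAction G X] (e : X ≃ Fin k) :
    G →* Matrix (Fin k) (Fin k) ℂ where
  toFun g := Matrix.of fun i j => if g • e.symm j = e.symm i then 1 else 0
  map_one' := by
    ext i j
    simp [Matrix.one_apply, eq_comm]
  map_mul' g h := by
    classical
    ext i j
    simp only [Matrix.mul_apply, Matrix.of_apply, mul_ite, mul_one, mul_zero]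
    rw [Finset.sum_eq_single (e (h • e.symm j))]
    · simp [mul_smul]
    · intro l _ hl
      rw [if_neg]
      exact fun hc => hl (by rw [hc]; simp)
    · intro hh
      exact absurd (Finset.mem_univ _) hh

variable (X : Type*) [MulAction G X] (e : X ≃ Fin k)

theorem pmat_isU : IsU (pmat (G := G) X e) := by
  classical
  intro g
  ext i j
  simp only [pmat, MonoidHom.coe_mk, OneHom.coe_mk, Matrix.conjTranspose_apply, Matrix.of_apply]
  rw [apply_ite star, star_one, star_zero]
  exact if_congr (by rw [inv_smul_eq_iff, eq_comm]) rfl rfl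

theorem pmat_trace (g : G) : (pmat X e g).trace = (Nat.card (MulAction.fixedBy X g) : ℂ) := by
  classical
  simp only [Matrix.trace, Matrix.diag, pmat, MonoidHom.coe_mk, OneHom.coe_mk, Matrix.of_apply,
    Finset.sum_boole]
  congr 1
  rw [Nat.card_congr (e.subtypeEquiv (p := fun x => x ∈ MulAction.fixedBy X g)
      (q := fun i => g • e.symm i = e.symm i) (fun x => by simp [MulAction.mem_fixedBy])),
    Nat.card_eq_fintype_card, Fintype.card_subtype]

theorem pmat_eq_one {g : G} (h : pmat X e g = 1) (x : X) : g • x = x := by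
  classical
  have h1 := congrFun (congrFun h (e x)) (e x)
  simp only [pmat, MonoidHom.coe_mk, OneHom.coe_mk, Matrix.of_apply, Equiv.symm_apply_apply,
    Matrix.one_apply_eq] at h1
  by_contra hne
  rw [if_neg hne] at h1
  exact zero_ne_one h1

end Action

section Transitive

variable {X : Type*} [MulAction (SpecialLinearGroup (Fin (m + 3)) F) X]
  [MulAction.IsPretransitive (SpecialLinearGroup (Fin (m + 3)) F) X] [Finite X]

/-- few points force the transvections to move many of them -/
theorem fixed_qEl (hk : Nat.card X = k) (h2 : 2 ≤ k)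
    (hlt : k + 2 < 2 * Fintype.card F ^ (m + 2)) :
    Fintype.card F ^ (m + 2) ≤ k ∧ ∀ r : Fin (m + 2) → F, r ≠ 0 →
      Nat.card (MulAction.fixedBy X (qEl r : SpecialLinearGroup (Fin (m + 3)) F)) =
        k - Fintype.card F ^ (m + 2) := by
  classical
  let e : X ≃ Fin k := (Finite.equivFin X).trans (finCongr hk)
  set R := pmat (G := SpecialLinearGroup (Fin (m + 3)) F) X e
  have hnt : ∃ g, R g ≠ 1 := by
    by_contra! h
    haveI : Nontrivial X := Finite.one_lt_card_iff_nontrivial.mp (by omega)
    obtain ⟨x, y, hxy⟩ := exists_pair_ne X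
    obtain ⟨g, hg⟩ := MulAction.exists_smul_eq (SpecialLinearGroup (Fin (m + 3)) F) x y
    exact hxy (by rw [← hg, pmat_eq_one X e (h g)])
  obtain ⟨a, d, ha, hτ, hd⟩ := trace_facts (pmat_isU X e) hnt
  rw [pmat_trace] at hτ
  have hf : Nat.card (MulAction.fixedBy X (qEl (Pi.single 0 1) : SpecialLinearGroup (Fin (m + 3)) F))
      + Fintype.card F ^ (m + 2) * a = k := by
    apply Nat.cast_injective (R := ℂ)
    push_cast
    rw [hτ]; ring
  obtain rfl : a = 1 := by
    by_contra hne
    have : Fintype.card F ^ (m + 2) * 2 ≤ Fintype.card F ^ (m + 2) * a :=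
      Nat.mul_le_mul_left _ (by omega)
    omega
  rw [mul_one] at hf
  refine ⟨by omega, fun r hr => ?_⟩
  have h := pmat_trace X e (qEl r : SpecialLinearGroup (Fin (m + 3)) F)
  rw [show (R (qEl r)).trace = (R (qEl (Pi.single 0 1))).trace from
    trace_tv_const (qEl_ok r) single0_ne (cons_ne_zero hr), pmat_trace] at h
  have := Nat.cast_injective h
  omega

end Transitive

section Irr

/-- non-trivial irreducible characters have large degree -/
theorem irr_degree_ge {χ : SpecialLinearGroup (Fin (m + 3)) F → ℂ}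
    (hχ : IsIrrCharacter _ χ) (hne : χ ≠ fun _ => 1) :
    ∃ d : ℕ, χ 1 = d ∧ Fintype.card F ^ (m + 2) ≤ d + 1 ∧ d ∣ Nat.card (SpecialLinearGroup (Fin (m + 3)) F) ∧
      ((m + 3, Fintype.card F) ≠ (3, 2) → (m + 3, Fintype.card F) ≠ (3, 4) →
        (m + 3, Fintype.card F) ≠ (4, 2) → (m + 3, Fintype.card F) ≠ (4, 3) →
        (Fintype.card F ^ (m + 3) - Fintype.card F) / (Fintype.card F - 1) ≤ d) := by
  classical
  obtain ⟨d₀, hd₀, hd1, hdvd⟩ := irr_degree_dvd_card hχ
  have hperf := Linear.commutator_SL_eq_top (F := F) (ι := Fin (m + 3)) (by simp)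
  obtain ⟨k, ρ, hirr, hch⟩ := id hχ
  have hk : d₀ = k := by
    have : χ 1 = (k : ℂ) := by rw [← hch, Representation.char_one, Module.finrank_fin_fun]
    exact_mod_cast hd1.symm.trans this
  subst hk
  have hk2 : 2 ≤ d₀ := by
    by_contra hlt
    refine hne (funext fun g => linear_eq_one_of_mem_commutator (isCharacter_of_irr hχ) ?_
      (hperf ▸ Subgroup.mem_top g))
    rw [hd1, show d₀ = 1 by omega, Nat.cast_one]
  refine ⟨d₀, hd1, ?_, hdvd, fun e1 e2 e3 e4 =>
    special_linear_bound (by omega) ⟨e1, e2, e3, e4⟩ ρ hirr hk2⟩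
  obtain ⟨R, hR, hker⟩ := exists_unitary ρ
  have hnt : ∃ g, R g ≠ 1 := by
    by_contra! h
    have hc : ρ.character = fun _ => (d₀ : ℂ) := funext fun g => by
      rw [Representation.character, hker g (h g), LinearMap.trace_one, Module.finrank_fin_fun]
    have h1 := (isIrrCharacter_iff_classInner.1 ⟨d₀, ρ, hirr, hc⟩).2
    simp only [classInner, Finset.sum_const, Finset.card_univ, nsmul_eq_mul,
      Nat.card_eq_fintype_card, map_natCast] at h1
    rw [← mul_assoc, inv_mul_cancel₀ (Nat.cast_ne_zero.2 Fintype.card_ne_zero), one_mul] at h1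
    have : d₀ * d₀ = 1 := by exact_mod_cast h1
    nlinarith
  obtain ⟨a, d, ha, -, hd⟩ := trace_facts hR hnt
  obtain ⟨b, hb⟩ : ∃ b, Fintype.card F ^ (m + 2) = b + 1 :=
    ⟨_, (Nat.sub_add_cancel (Nat.one_le_pow _ _ Fintype.card_pos)).symm⟩
  rw [hb] at hd ⊢
  have : b ≤ b * a := Nat.le_mul_of_pos_right b ha
  rw [add_mul, one_mul] at hd
  omega

/-- the two possibilities for a transitive action: a single constituent or at least two -/
theorem transitive_degree (X : Type*) [MulAction (SpecialLinearGroup (Fin (m + 3)) F) X]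
    [MulAction.IsPretransitive (SpecialLinearGroup (Fin (m + 3)) F) X] [Finite X]
    (hX : 2 ≤ Nat.card X) :
    ∃ (χ : IrrCharacter (SpecialLinearGroup (Fin (m + 3)) F)) (d : ℕ),
      χ.1 ≠ (fun _ => 1) ∧ χ.1 1 = d ∧ d + 1 ≤ Nat.card X ∧
      (Nat.card X = d + 1 ∨ d + Fintype.card F ^ (m + 2) ≤ Nat.card X) := by
  classical
  set G := SpecialLinearGroup (Fin (m + 3)) F
  letI := Fintype.ofFinite G
  haveI : Nonempty X := (Nat.card_pos_iff.mp (by omega)).1
  have h1 : classInner (permChar (G := G) X) (fun _ => 1) = 1 := by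
    rw [classInner_permChar_one, card_orbits_eq_one_of_pretransitive, Nat.cast_one]
  have hc : IsCharacter G (permChar (G := G) X - fun _ => 1) :=
    isCharacter_sub_constituent (isCharacter_permChar X) (ψ := trivialIrr G) Nat.one_pos
      (by simpa [trivialIrr] using h1)
  have hdeg : permChar (G := G) X 1 = (Nat.card X : ℂ) := by
    rw [permChar, show MulAction.fixedBy X (1 : G) = Set.univ by ext; simp]
    simp [Nat.card_congr (Equiv.Set.univ X)]
  have h0 : permChar (G := G) X - (fun _ => 1) ≠ 0 := by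
    intro h
    have := congrFun h 1
    rw [Pi.sub_apply, hdeg, Pi.zero_apply, sub_eq_zero] at this
    have : Nat.card X = 1 := by exact_mod_cast this
    omega
  have horth : classInner (permChar (G := G) X - fun _ => 1) (fun _ => 1) = 0 := by
    rw [classInner_sub_left, h1, classInner_irr_self isIrrCharacter_const_one, sub_self]
  obtain ⟨ψ, n, hn, hψ⟩ := exists_irr_constituent hc h0
  have hψ1 : ψ.1 ≠ fun _ => 1 := by
    intro h
    rw [h, horth] at hψ
    exact absurd (Nat.cast_eq_zero.1 hψ.symm) (by omega)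
  obtain ⟨d, hd, -⟩ := irr_degree_ge ψ.2 hψ1
  have hc2 : IsCharacter G (permChar (G := G) X - (fun _ => 1) - ψ.1) :=
    isCharacter_sub_constituent hc hn hψ
  obtain ⟨k', ρ', hρ'⟩ := hc2
  have hk' : Nat.card X = k' + d + 1 := by
    have h := congrFun hρ' 1
    rw [Representation.char_one, Module.finrank_fin_fun, Pi.sub_apply, Pi.sub_apply, hdeg, hd] at h
    apply Nat.cast_injective (R := ℂ)
    push_cast
    linear_combination -h
  refine ⟨ψ, d, hψ1, hd, by omega, ?_⟩
  by_cases hz : permChar (G := G) X - (fun _ => 1) - ψ.1 = 0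
  · left
    have h := congrFun hz 1
    rw [Pi.sub_apply, Pi.sub_apply, hdeg, hd, Pi.zero_apply] at h
    apply Nat.cast_injective (R := ℂ)
    push_cast
    linear_combination h
  · right
    have hc2' : IsCharacter G (permChar (G := G) X - (fun _ => 1) - ψ.1) := ⟨k', ρ', hρ'⟩
    obtain ⟨φ, n', hn', hφ⟩ := exists_irr_constituent hc2' hz
    have hφ1 : φ.1 ≠ fun _ => 1 := by
      intro h
      rw [h, classInner_sub_left, horth,
        classInner_irr_ne ψ.2 isIrrCharacter_const_one hψ1, sub_self] at hφ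
      exact absurd (Nat.cast_eq_zero.1 hφ.symm) (by omega)
    obtain ⟨e, he, hbe, -⟩ := irr_degree_ge φ.2 hφ1
    obtain ⟨k'', ρ'', hρ''⟩ := isCharacter_sub_constituent hc2' hn' hφ
    have h := congrFun hρ'' 1
    rw [Representation.char_one, Module.finrank_fin_fun, Pi.sub_apply, Pi.sub_apply, Pi.sub_apply,
      hdeg, hd, he] at h
    have : Nat.card X = k'' + e + d + 1 := by
      apply Nat.cast_injective (R := ℂ)
      push_cast
      linear_combination -h
    omega

end Irr

end Cfsg.Agent.MinIndex50
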